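import Groth.Agent.Lib.BlowUp6.Separated
import Groth.Agent.Lib.BlowUp.Rees
import Groth.Agent.S0566
import Groth.Agent.S9400

/-!
# Blow-ups of locally Noetherian schemes are proper; Nagata schemes
-/

set_option autoImplicit false
set_option backward.isDefEq.respectTransparency false
set_option backward.isDefEq.respectTransparency.types false

universe u

open CategoryTheory Limits AlgebraicGeometry Polynomial

namespace GrothLib.BlowUpProper

theorem surjective_algebraMap_deg_zero {A : Type u} [CommRing A] (I : Ideal A) :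
    Function.Surjective (algebraMap A (Rees.deg (reesAlgebra I) 0)) := by
  intro y
  obtain ⟨x, hx, e⟩ := GrothLib.BlowUp.exists_eq_monomial I y.2
  refine ⟨x, Subtype.ext (Subtype.ext ?_)⟩
  rw [e, monomial_zero_left]
  rfl

theorem isProper_proj {A : Type u} [CommRing A] [IsNoetherianRing A] (I : Ideal A) :
    IsProper (Proj (Rees.deg (reesAlgebra I)) ↘ Spec (CommRingCat.of A)) := by
  have : IsScalarTower A (Rees.deg (reesAlgebra I) 0) (reesAlgebra I) := IsScalarTower.of_algebraMap_eq (R := A) (S := Rees.deg (reesAlgebra I) 0) (A := reesAlgebra I) fun _ => rfl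
  have : Algebra.FiniteType (Rees.deg (reesAlgebra I) 0) (reesAlgebra I) :=
    Algebra.FiniteType.of_restrictScalars_finiteType A _ _
  show IsProper (Proj.toSpecZero _ ≫ Spec.map _)
  refine MorphismProperty.comp_mem @IsProper _ _ inferInstance ?_
  have : IsClosedImmersion (Spec.map (CommRingCat.ofHom (algebraMap A (Rees.deg (reesAlgebra I) 0)) :
      CommRingCat.of A ⟶ CommRingCat.of (Rees.deg (reesAlgebra I) 0))) :=
    IsClosedImmersion.spec_of_surjective _ (surjective_algebraMap_deg_zero I)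
  exact inferInstanceAs (IsProper (Spec.map (CommRingCat.ofHom (algebraMap A (Rees.deg (reesAlgebra I) 0)) :
      CommRingCat.of A ⟶ CommRingCat.of (Rees.deg (reesAlgebra I) 0))))

theorem isProper_of_isBlowUp {X X' : Scheme.{u}} [IsLocallyNoetherian X] {b : X' ⟶ X} {I : X.IdealSheafData}
    (hb : _root_.BlowUp.IsBlowUp b I) : IsProper b := by
  refine IsZariskiLocalAtTarget.of_openCover (P := @IsProper) X.affineCover fun i => ?_
  obtain ⟨A, hA⟩ : ∃ A : CommRingCat.{u}, X.affineCover.X i = Spec A := ⟨_, rfl⟩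
  have h1 := GrothLib.BlowUp.isBlowUp_flat_baseChange (X.affineCover.f i) hb
  have hNX : IsLocallyNoetherian (X.affineCover.X i) := isLocallyNoetherian_of_isOpenImmersion (X.affineCover.f i)
  revert h1
  show _root_.BlowUp.IsBlowUp (pullback.fst (X.affineCover.f i) b) _ → IsProper (pullback.snd b (X.affineCover.f i))
  rw [show pullback.snd b (X.affineCover.f i) =
    (pullbackSymmetry b (X.affineCover.f i)).hom ≫ pullback.fst (X.affineCover.f i) b by simp,
    MorphismProperty.cancel_left_of_respectsIso (P := @IsProper)]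
  generalize X.affineCover.f i = j
  generalize hY : X.affineCover.X i = Y at *
  subst hA
  intro h1
  rw [GrothLib.BlowUp.eq_idealSheaf (A := A) (I.comap j)] at h1
  obtain ⟨e, he⟩ := GrothLib.BlowUp.exists_iso_of_isBlowUp h1 (GrothLib.BlowUp.isBlowUp_proj _)
  rw [← he, MorphismProperty.cancel_left_of_respectsIso (P := @IsProper)]
  have : IsNoetherianRing A := by
    have := IsLocallyNoetherian.component_noetherian (X := Spec A) ⟨⊤, isAffineOpen_top _⟩
    exact isNoetherianRing_of_ringEquiv Γ(Spec A, ⊤) (Scheme.ΓSpecIso A).commRingCatIsoToRingEquiv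
  exact isProper_proj _

theorem isNagata_of_locallyOfFiniteType {X Y : Scheme.{u}} (f : Y ⟶ X) [LocallyOfFiniteType f]
    (hN : ∀ U : X.affineOpens, CAlg.IsNagata Γ(X, U.1)) (U : Y.affineOpens) : CAlg.IsNagata Γ(Y, U.1) := by
  classical
  have hloc : ∀ y : U.1, ∃ (V : X.affineOpens) (r : Γ(Y, U.1)), y.1 ∈ Y.basicOpen r ∧ Y.basicOpen r ≤ f ⁻¹ᵁ V.1 := by
    intro y
    obtain ⟨V, hV, hyV, -⟩ := exists_isAffineOpen_mem_and_subset (show f y.1 ∈ (⊤ : X.Opens) from trivial)
    obtain ⟨r, hr, hyr⟩ := U.2.exists_basicOpen_le (V := f ⁻¹ᵁ V) ⟨y.1, hyV⟩ y.2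
    exact ⟨⟨V, hV⟩, r, hyr, hr⟩
  choose V r hyr hle using hloc
  obtain ⟨s, hs⟩ := U.2.isCompact.elim_finite_subcover (fun y : U.1 => (Y.basicOpen (r y) : Set Y))
    (fun y => (Y.basicOpen (r y)).2) fun y hy => Set.mem_iUnion.2 ⟨⟨y, hy⟩, hyr ⟨y, hy⟩⟩
  refine Groth.Agent.S9400.result Γ(Y, U.1) (fun y : s => r y.1) ?_ fun y => ?_
  · rw [← U.2.iSup_basicOpen_eq_self_iff]
    refine le_antisymm (iSup_le fun a => Y.basicOpen_le _) fun y hy => ?_
    obtain ⟨z, hz, hyz⟩ := Set.mem_iUnion₂.1 (hs hy)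
    exact TopologicalSpace.Opens.mem_iSup.2 ⟨⟨r z, ⟨z, hz⟩, rfl⟩, hyz⟩
  · have hW : IsAffineOpen (Y.basicOpen (r y.1)) := U.2.basicOpen _
    let _ : Algebra Γ(X, (V y.1).1) Γ(Y, Y.basicOpen (r y.1)) := (f.appLE _ _ (hle y.1)).hom.toAlgebra
    have : Algebra.FiniteType Γ(X, (V y.1).1) Γ(Y, Y.basicOpen (r y.1)) :=
      HasRingHomProperty.appLE @LocallyOfFiniteType f inferInstance (V y.1) ⟨_, hW⟩ (hle y.1)
    have h1 := Groth.Agent.S0566.result _ (hN (V y.1)) Γ(Y, Y.basicOpen (r y.1))
    have := U.2.isLocalization_basicOpen (r y.1)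
    let e : Γ(Y, Y.basicOpen (r y.1)) ≃+* Localization.Away (r y.1) :=
      (IsLocalization.algEquiv (Submonoid.powers (r y.1)) _ _).toRingEquiv
    let _ : Algebra Γ(Y, Y.basicOpen (r y.1)) (Localization.Away (r y.1)) := e.toRingHom.toAlgebra
    have : Algebra.FiniteType Γ(Y, Y.basicOpen (r y.1)) (Localization.Away (r y.1)) :=
      Algebra.FiniteType.of_surjective (Algebra.ofId _ _) e.surjective
    exact Groth.Agent.S0566.result _ h1 _

end GrothLib.BlowUpProper
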